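import Groth.Agent.Lib.IdealTransform.CokerH1
import Mathlib

/-! # Compatible families of fractions and the first local cohomology -/

set_option autoImplicit false
set_option linter.style.haveILetI false
universe u

noncomputable section

namespace Groth.Agent.GrAlpha27

variable {R : Type u} [CommRing R] {M : Type u} [AddCommGroup M] [Module R M] {r : ℕ} (f : Fin r → R)

/-- The localisation at the `i`-th element. -/
abbrev MF (M : Type u) [AddCommGroup M] [Module R M] (i : Fin r) : Type u :=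
  LocalizedModule (Submonoid.powers (f i)) M

/-- The canonical map. -/
abbrev ι (i : Fin r) : M →ₗ[R] MF f M i := LocalizedModule.mkLinearMap (Submonoid.powers (f i)) M

theorem smul_bijective (i : Fin r) (n : ℕ) : Function.Bijective fun z : MF f M i => f i ^ n • z :=
  (Module.End.isUnit_iff _).1 (IsLocalizedModule.map_units (ι (M := M) f i) (⟨f i ^ n, n, rfl⟩ : Submonoid.powers (f i)))

theorem exists_pow_smul_of_eq_zero {i : Fin r} {m : M} (h : ι f i m = 0) : ∃ n : ℕ, f i ^ n • m = 0 := by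
  obtain ⟨⟨c, n, hn⟩, hc⟩ := (IsLocalizedModule.eq_zero_iff (Submonoid.powers (f i)) (ι (M := M) f i)).1 h
  exact ⟨n, by rw [Submonoid.smul_def] at hc; simp only at hn; rw [hn]; exact hc⟩

theorem ι_eq_zero {i : Fin r} {m : M} {n : ℕ} (h : f i ^ n • m = 0) : ι f i m = 0 :=
  (IsLocalizedModule.eq_zero_iff (Submonoid.powers (f i)) (ι (M := M) f i)).2 ⟨⟨f i ^ n, n, rfl⟩, h⟩

/-- `(a, m)` represents the family `z`. -/
def IsRep (z : ∀ i, MF f M i) (a : ℕ) (m : Fin r → M) : Prop :=
  (∀ i, f i ^ a • z i = ι f i (m i)) ∧ ∀ i j, f j ^ a • m i = f i ^ a • m j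

theorem IsRep.raise {z : ∀ i, MF f M i} {a : ℕ} {m : Fin r → M} (h : IsRep f z a m) (b : ℕ) :
    IsRep f z (b + a) (fun i => f i ^ b • m i) :=
  ⟨fun i => by rw [pow_add, mul_smul, h.1 i, map_smul], fun i j => by
    rw [pow_add, pow_add, mul_smul, mul_smul, smul_comm (f j ^ a), h.2 i j, smul_comm (f i ^ a) (f j ^ b),
      smul_comm (f j ^ b) (f i ^ b)]⟩

/-- The compatible families. -/
def Z : Submodule R (∀ i, MF f M i) where
  carrier := {z | ∃ a m, IsRep f z a m}
  zero_mem' := ⟨0, 0, fun i => by simp, fun i j => by simp⟩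
  add_mem' := by
    rintro z w ⟨a, m, hm⟩ ⟨b, k, hk⟩
    refine ⟨b + a, (fun i => f i ^ b • m i) + fun i => f i ^ a • k i, fun i => ?_, fun i j => ?_⟩
    · have h1 := (hm.raise f b).1 i
      have h2 := (hk.raise f a).1 i
      rw [add_comm a b] at h2
      rw [Pi.add_apply, Pi.add_apply, smul_add, map_add, h1, h2]
    · have h1 := (hm.raise f b).2 i j
      have h2 := (hk.raise f a).2 i j
      rw [add_comm a b] at h2
      rw [Pi.add_apply, Pi.add_apply, smul_add, smul_add, h1, h2]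
  smul_mem' := by
    rintro c z ⟨a, m, hm⟩
    exact ⟨a, fun i => c • m i, fun i => by rw [Pi.smul_apply, smul_comm, hm.1 i, map_smul],
      fun i j => by rw [smul_comm, hm.2 i j, smul_comm]⟩

theorem mem_Z {z : ∀ i, MF f M i} : z ∈ Z f ↔ ∃ a m, IsRep f z a m := Iff.rfl

theorem mem_Z_of_killed {z : ∀ i, MF f M i} (a : ℕ) (m : Fin r → M) (h1 : ∀ i, f i ^ a • z i = ι f i (m i))
    (h2 : ∀ i j, ∃ N : ℕ, (f i * f j) ^ N • (f j ^ a • m i - f i ^ a • m j) = 0) : z ∈ Z f := by
  choose N hN using h2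
  let L := ∑ p : Fin r × Fin r, N p.1 p.2
  refine ⟨L + a, fun i => f i ^ L • m i, fun i => by rw [pow_add, mul_smul, h1 i, map_smul], fun i j => ?_⟩
  have hle : N i j ≤ L := Finset.single_le_sum (f := fun p : Fin r × Fin r => N p.1 p.2)
    (fun p _ => Nat.zero_le _) (Finset.mem_univ (i, j))
  refine sub_eq_zero.1 ?_
  calc f j ^ (L + a) • f i ^ L • m i - f i ^ (L + a) • f j ^ L • m j
      = (f i * f j) ^ (L - N i j) • ((f i * f j) ^ N i j • (f j ^ a • m i - f i ^ a • m j)) := by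
        rw [smul_smul ((f i * f j) ^ (L - N i j)), ← pow_add, Nat.sub_add_cancel hle]
        simp only [smul_smul, smul_sub]
        congr 2 <;> ring
    _ = 0 := by rw [hN, smul_zero]

/-- The canonical map to the compatible families. -/
def toZ : M →ₗ[R] Z (M := M) f :=
  (LinearMap.pi fun i => ι f i).codRestrict _ fun m => ⟨0, fun _ => m, fun i => by simp, fun _ _ => by simp⟩

theorem toZ_apply (m : M) (i : Fin r) : (toZ f m : ∀ i, MF f M i) i = ι f i m := rfl

variable [IsNoetherianRing R]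

/-- Compatible families modulo `M` give the first local cohomology. -/
theorem nonempty_coker_equiv :
    Nonempty ((Z (M := M) f ⧸ LinearMap.range (toZ f)) ≃ₗ[R] LocCoh.H (Ideal.span (Set.range f)) 1 M) := by
  let J := Ideal.span (Set.range f)
  have hker : LinearMap.ker (toZ (M := M) f) ≤ DRing.torsionSub J M := fun m hm => by
    have h : ∀ i, ∃ n : ℕ, f i ^ n • m = 0 := fun i => exists_pow_smul_of_eq_zero f (by
      rw [← toZ_apply, LinearMap.mem_ker.1 hm]; rfl)
    let K : Ideal R := LinearMap.ker (LinearMap.toSpanSingleton R M m)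
    have hle : J ≤ K.radical := Ideal.span_le.2 fun x ⟨i, hi⟩ => by
      obtain ⟨n, hn⟩ := h i
      exact ⟨n, hi ▸ LinearMap.mem_ker.2 hn⟩
    obtain ⟨n, hn⟩ := Ideal.exists_pow_le_of_le_radical_of_fg hle (IsNoetherian.noetherian J)
    exact ⟨n, fun a ha => LinearMap.mem_ker.1 (hn ha)⟩
  have hcoker : LocCoh.IsPowerTorsion J (Z (M := M) f ⧸ LinearMap.range (toZ f)) := by
    intro c
    obtain ⟨z, rfl⟩ := Submodule.Quotient.mk_surjective _ c
    obtain ⟨a, m, hm⟩ := z.2
    let K : Ideal R := LinearMap.ker (LinearMap.toSpanSingleton R _ (Submodule.Quotient.mk (p := LinearMap.range (toZ f)) z))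
    have hle : J ≤ K.radical := Ideal.span_le.2 fun x ⟨i, hi⟩ => by
      refine ⟨a, hi ▸ LinearMap.mem_ker.2 ?_⟩
      rw [LinearMap.toSpanSingleton_apply, ← Submodule.Quotient.mk_smul, Submodule.Quotient.mk_eq_zero]
      refine ⟨m i, Subtype.ext (funext fun j => (smul_bijective f j a).1 ?_)⟩
      show f j ^ a • ι f j (m i) = f j ^ a • (f i ^ a • (z : ∀ i, MF f M i) j)
      rw [← map_smul, hm.2 i j, map_smul, ← hm.1 j, smul_comm]
    obtain ⟨n, hn⟩ := Ideal.exists_pow_le_of_le_radical_of_fg hle (IsNoetherian.noetherian J)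
    exact ⟨n, fun b hb => LinearMap.mem_ker.1 (hn hb)⟩
  have htf : DRing.torsionSub J (Z (M := M) f) = ⊥ := by
    rw [eq_bot_iff]
    rintro z ⟨n, hn⟩
    refine (Submodule.mem_bot R).2 (Subtype.ext (funext fun i => (smul_bijective f i n).1 ?_))
    show f i ^ n • (z : ∀ i, MF f M i) i = f i ^ n • (0 : MF f M i)
    rw [smul_zero]
    exact congrFun (congrArg Subtype.val (hn _ (Ideal.pow_mem_pow (Ideal.subset_span (Set.mem_range_self i)) n))) i
  obtain ⟨θ, hθ, -⟩ := DTLib.existsUnique_factor (toZ f) hker hcoker (LinearMap.id : M →ₗ[R] M)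
  rw [LinearMap.comp_id] at hθ
  have hlift : ∀ (n : ℕ) (φ : ↥(J ^ n) →ₗ[R] M), ∃ p : Z (M := M) f, ∃ k, ∀ a : ↥(J ^ n), (a : R) ∈ J ^ k →
      (a : R) • p = toZ f (φ a) := by
    intro n φ
    have hg : ∀ i, f i ^ n ∈ J ^ n := fun i => Ideal.pow_mem_pow (Ideal.subset_span (Set.mem_range_self i)) n
    have key : ∀ (a b : ↥(J ^ n)), (a : R) • φ b = (b : R) • φ a := fun a b => by
      rw [← map_smul, ← map_smul]
      exact congrArg φ (Subtype.ext (mul_comm _ _))
    choose z hz using fun i => (smul_bijective f i n).2 (ι f i (φ ⟨f i ^ n, hg i⟩))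
    refine ⟨⟨z, n, fun i => φ ⟨f i ^ n, hg i⟩, hz, fun i j => key ⟨f j ^ n, hg j⟩ ⟨f i ^ n, hg i⟩⟩, n,
      fun a _ => Subtype.ext (funext fun i => (smul_bijective f i n).1 ?_)⟩
    show f i ^ n • ((a : R) • z i) = f i ^ n • ι f i (φ a)
    rw [smul_comm, show f i ^ n • z i = _ from hz i, ← map_smul, key a ⟨f i ^ n, hg i⟩, map_smul]
  let θe : Z (M := M) f ≃ₗ[R] LocCoh.DT J M :=
    LinearEquiv.ofBijective θ (DTLib.bijective_of_factor (toZ f) hcoker hlift htf θ hθ)
  have hrange : (LinearMap.range (toZ (M := M) f)).map (θe : Z (M := M) f →ₗ[R] LocCoh.DT J M) =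
      LinearMap.range (LocCoh.toDT J M) := by
    rw [← LinearMap.range_comp]
    exact congrArg LinearMap.range hθ
  obtain ⟨e⟩ := DTLib.nonempty_coker_equiv (I := J) M
  exact ⟨(Submodule.Quotient.equiv _ _ θe hrange).trans e⟩

end Groth.Agent.GrAlpha27
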