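import Groth.Agent.Lib.GrAlpha27.Sections

/-! # The cokernel of `M → ⊕ Γ(M(n)~)` -/

set_option autoImplicit false
set_option linter.style.haveILetI false

open CategoryTheory AlgebraicGeometry Opposite

universe u

noncomputable section

namespace Groth.Agent.GrAlpha27

variable {R σ : Type u} [CommRing R] [IsNoetherianRing R] [SetLike σ R] [AddSubgroupClass σ R]
    (𝒜 : ℕ → σ) [GradedRing 𝒜] {M τ : Type u} [AddCommGroup M] [Module R M] [SetLike τ M] [AddSubgroupClass τ M]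
    (ℳ : ℕ → τ) [SetLike.GradedSMul 𝒜 ℳ] [DirectSum.Decomposition ℳ]

omit [SetLike.GradedSMul 𝒜 ℳ] in
theorem exists_generators : ∃ (r : ℕ) (f : Fin r → R) (d : Fin r → ℕ), (∀ i, 0 < d i) ∧ (∀ i, f i ∈ 𝒜 (d i)) ∧
    Ideal.span (Set.range f) = (HomogeneousIdeal.irrelevant 𝒜).toIdeal := by
  classical
  let S : Set R := {a | ∃ d : ℕ, 0 < d ∧ a ∈ 𝒜 d}
  have hS : Ideal.span S = (HomogeneousIdeal.irrelevant 𝒜).toIdeal := by
    refine le_antisymm (Ideal.span_le.2 fun a ⟨d, hd, ha⟩ => HomogeneousIdeal.mem_irrelevant_of_mem 𝒜 hd ha)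
      fun a ha => ?_
    rw [← DirectSum.sum_support_decompose 𝒜 a]
    refine sum_mem fun e _ => ?_
    rcases Nat.eq_zero_or_pos e with rfl | he
    · have h0 : GradedRing.proj 𝒜 0 a = 0 := (HomogeneousIdeal.mem_irrelevant_iff 𝒜 a).1 ha
      rw [GradedRing.proj_apply] at h0
      rw [h0]
      exact zero_mem _
    · exact Ideal.subset_span ⟨e, he, SetLike.coe_mem _⟩
  obtain ⟨t, htS, ht⟩ := (Submodule.fg_span_iff_fg_span_finset_subset S).1 (IsNoetherian.noetherian (Ideal.span S))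
  have h : ∀ i : Fin t.card, ∃ d : ℕ, 0 < d ∧ ((t.equivFin.symm i : t) : R) ∈ 𝒜 d := fun i =>
    htS (t.equivFin.symm i).2
  choose d hd hf using h
  refine ⟨t.card, fun i => ((t.equivFin.symm i : t) : R), d, hd, hf, ?_⟩
  rw [← hS, show Ideal.span S = Ideal.span (t : Set R) from ht]
  congr 1
  ext a
  exact ⟨fun ⟨i, hi⟩ => hi ▸ (t.equivFin.symm i).2, fun ha => ⟨t.equivFin ⟨a, ha⟩, by simp⟩⟩

theorem nonempty_coker_alpha_equiv :
    Nonempty ((DirectSum ℤ (fun n : ℤ => ((GrMod.tilde 𝒜 ℳ n).val.obj (op ⊤) : Type u)) ⧸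
        AddSubgroup.closure (⋃ i : ℕ, Set.range (fun m : ℳ i =>
          DirectSum.of (fun n : ℤ => ((GrMod.tilde 𝒜 ℳ n).val.obj (op ⊤) : Type u)) (i : ℤ)
            (GrMod.alpha 𝒜 ℳ i m)))) ≃+
      LocCoh.H (HomogeneousIdeal.irrelevant 𝒜).toIdeal 1 M) := by
  classical
  obtain ⟨r, f, d, hd, hf, hspan⟩ := exists_generators 𝒜
  have hcov : ∀ x : ProjectiveSpectrum 𝒜, ∃ i, f i ∉ x.asHomogeneousIdeal := fun x => by
    by_contra h
    push Not at h
    refine x.not_irrelevant_le ?_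
    show (HomogeneousIdeal.irrelevant 𝒜).toIdeal ≤ x.asHomogeneousIdeal.toIdeal
    rw [← hspan]
    exact Ideal.span_le.2 fun _ ⟨i, hi⟩ => hi ▸ h i
  let Θ := AddEquiv.ofBijective (thetaAll (𝒜 := 𝒜) (ℳ := ℳ) hd hf)
    ⟨thetaAll_injective hd hf hcov, thetaAll_surjective hd hf hcov⟩
  obtain ⟨e⟩ := nonempty_coker_equiv (M := M) f
  rw [hspan] at e
  refine ⟨(QuotientAddGroup.congr _ (LinearMap.range (toZ (M := M) f)).toAddSubgroup Θ ?_).trans e.toAddEquiv⟩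
  have hΘ : ∀ (i : ℕ) (m : ℳ i), Θ (DirectSum.of (fun n : ℤ => ((GrMod.tilde 𝒜 ℳ n).val.obj (op ⊤) : Type u))
      (i : ℤ) (GrMod.alpha 𝒜 ℳ i m)) = toZ f (m : M) := fun i m =>
    (thetaAll_of hd hf _ _).trans (theta_alpha hd hf i m)
  rw [AddMonoidHom.map_closure]
  refine le_antisymm ((AddSubgroup.closure_le _).2 ?_) ?_
  · rintro _ ⟨_, h, rfl⟩
    obtain ⟨i, m, rfl⟩ := Set.mem_iUnion.1 h
    exact ⟨(m : M), (hΘ i m).symm⟩
  · rintro _ ⟨m, rfl⟩
    rw [← DirectSum.sum_support_decompose ℳ m, map_sum]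
    refine sum_mem fun e _ => AddSubgroup.subset_closure ?_
    exact ⟨_, Set.mem_iUnion.2 ⟨e, DirectSum.decompose ℳ m e, rfl⟩, hΘ e _⟩

end Groth.Agent.GrAlpha27
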