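import Groth.Agent.Lib.GrAlpha27.Alg
import Groth.Agent.Lib.GrMod11.Frac
import Groth.Agent.Lib.GrMod11.Finite

/-! # Sections of twisted graded sheaves as compatible families of fractions -/

set_option autoImplicit false
set_option linter.style.haveILetI false
set_option linter.unusedSectionVars false

open CategoryTheory AlgebraicGeometry TopologicalSpace Opposite

universe u

noncomputable section

namespace Groth.Agent.GrAlpha27

open _root_.GrMod Groth.Agent.GrMod11 Groth.Agent.GrTw11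

variable {A σ : Type u} [CommRing A] [SetLike σ A] [AddSubgroupClass σ A] (𝒜 : ℕ → σ) [GradedRing 𝒜]
  {M τ : Type u} [AddCommGroup M] [Module A M] [SetLike τ M] [AddSubgroupClass τ M] (ℳ : ℕ → τ)
  [SetLike.GradedSMul 𝒜 ℳ] [DirectSum.Decomposition ℳ]

/-- The pieces of `M` indexed by integers. -/
def gz (z : ℤ) : AddSubgroup M := if 0 ≤ z then AddSubgroup.ofClass (ℳ z.toNat) else ⊥

theorem mem_gz_natCast {n : ℕ} {m : M} : m ∈ gz ℳ (n : ℤ) ↔ m ∈ ℳ n := by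
  rw [gz, if_pos (Int.natCast_nonneg n), Int.toNat_natCast]
  rfl

theorem mem_gz {z : ℤ} {m : M} (h : m ∈ gz ℳ z) :
    m ∈ ℳ z.toNat ∧ ((z.toNat : ℤ) = z ∨ m = 0) := by
  unfold gz at h
  split_ifs at h with hz
  · exact ⟨h, Or.inl (Int.toNat_of_nonneg hz)⟩
  · rw [AddSubgroup.mem_bot] at h
    exact ⟨h ▸ zero_mem _, Or.inr h⟩

theorem smul_mem_gz {w : ℕ} {g : A} (hg : g ∈ 𝒜 w) {z : ℤ} {m : M} (hm : m ∈ gz ℳ z) :
    g • m ∈ gz ℳ ((w : ℤ) + z) := by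
  obtain ⟨h1, h2 | h2⟩ := mem_gz ℳ hm
  · rw [← h2, ← Nat.cast_add, mem_gz_natCast]
    exact smul_mem_graded 𝒜 hg h1
  · rw [h2, smul_zero]
    exact zero_mem _

/-- The component in an integer degree. -/
def cz (z : ℤ) (m : M) : M := if 0 ≤ z then (DirectSum.decompose ℳ m z.toNat : M) else 0

theorem cz_mem (z : ℤ) (m : M) : cz ℳ z m ∈ gz ℳ z := by
  unfold cz gz
  split_ifs
  · exact (SetLike.coe_mem _)
  · exact zero_mem _

theorem cz_smul {w : ℕ} {g : A} (hg : g ∈ 𝒜 w) (z : ℤ) (m : M) : cz ℳ ((w : ℤ) + z) (g • m) = g • cz ℳ z m := by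
  unfold cz
  by_cases hz : 0 ≤ z
  · rw [if_pos hz, if_pos (by omega), decompose_hom_smul 𝒜 ℳ hg, if_pos (by omega)]
    rw [show ((w : ℤ) + z).toNat - w = z.toNat by omega]
  · rw [if_neg hz, smul_zero]
    split_ifs with h
    · rw [decompose_hom_smul 𝒜 ℳ hg, if_neg (by omega)]
    · rfl

theorem cz_of_mem {z w : ℤ} {m : M} (hm : m ∈ gz ℳ z) : cz ℳ w m = if z = w then m else 0 := by
  obtain ⟨h1, h2 | h2⟩ := mem_gz ℳ hm
  · unfold cz
    by_cases hzw : z = w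
    · subst hzw
      rw [if_pos rfl, if_pos (by omega), DirectSum.decompose_of_mem_same ℳ h1]
    · rw [if_neg hzw]
      split_ifs with hw
      · exact DirectSum.decompose_of_mem_ne ℳ h1 (by omega)
      · rfl
  · subst h2
    simp [cz]

theorem cz_sum {κ : Type*} (s : Finset κ) (z : ℤ) (g : κ → M) : cz ℳ z (∑ x ∈ s, g x) = ∑ x ∈ s, cz ℳ z (g x) := by
  classical
  induction s using Finset.induction_on with
  | empty => simp [cz]
  | insert a s ha ih =>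
    rw [Finset.sum_insert ha, Finset.sum_insert ha, ← ih]
    unfold cz
    split_ifs
    · rw [DirectSum.decompose_add, DirectSum.add_apply]; rfl
    · rw [add_zero]

variable {r : ℕ} (f : Fin r → A) {d : Fin r → ℕ} (hd : ∀ i, 0 < d i) (hf : ∀ i, f i ∈ 𝒜 (d i))

/-- `(k, m)` represents the section `s`. -/
def IsSecRep {n : ℤ} (s : Sec (𝒜 := 𝒜) (ℳ := ℳ) n ⊤) (i : Fin r) (k : ℕ) (m : M) : Prop :=
  m ∈ gz ℳ (((k * d i : ℕ) : ℤ) + n) ∧
    ∀ (x : ProjectiveSpectrum 𝒜) (hx : f i ∉ x.asHomogeneousIdeal),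
      val s x trivial = mkx 𝒜 x m (f i ^ k) (pow_notMem 𝒜 hx k)

variable {𝒜 ℳ f}

include hf in
theorem IsSecRep.raise {n : ℤ} {s : Sec (𝒜 := 𝒜) (ℳ := ℳ) n ⊤} {i : Fin r} {k : ℕ} {m : M}
    (h : IsSecRep 𝒜 ℳ f (d := d) s i k m) (b : ℕ) : IsSecRep 𝒜 ℳ f (d := d) s i (b + k) (f i ^ b • m) := by
  refine ⟨?_, fun x hx => (h.2 x hx).trans ((mkx_eq_iff 𝒜 _ _).2 ⟨1, one_nin x, ?_⟩)⟩
  · have := smul_mem_gz 𝒜 ℳ (pow_mem_smul 𝒜 (hf i) b) h.1
    rwa [show ((b * d i : ℕ) : ℤ) + (((k * d i : ℕ) : ℤ) + n) = (((b + k) * d i : ℕ) : ℤ) + n by push_cast; ring] at this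
  · simp only [smul_smul]
    congr 1
    ring

include hd hf in
theorem exists_secRep {n : ℤ} (s : Sec (𝒜 := 𝒜) (ℳ := ℳ) n ⊤) :
    ∃ (k : ℕ) (m : Fin r → M), ∀ i, IsSecRep 𝒜 ℳ f (d := d) s i k (m i) := by
  have h : ∀ i, ∃ k m, IsSecRep 𝒜 ℳ f (d := d) s i k m := fun i => by
    obtain ⟨e, k, m, hm, he, hv⟩ := exists_eq_frac_of_pos 𝒜 ℳ (hd i) (hf i)
      (Groth.Agent.M1.mres (tilde 𝒜 ℳ n) (le_top : Proj.basicOpen 𝒜 (f i) ≤ ⊤) s)
    refine ⟨k, m, ?_, fun x hx => hv x hx⟩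
    rw [show ((k * d i : ℕ) : ℤ) + n = (e : ℤ) by push_cast; omega, mem_gz_natCast]
    exact hm
  choose k m h using h
  refine ⟨∑ i, k i, fun i => f i ^ (∑ j, k j - k i) • m i, fun i => ?_⟩
  have := (h i).raise hf (∑ j, k j - k i)
  rwa [Nat.sub_add_cancel (Finset.single_le_sum (f := k) (fun _ _ => Nat.zero_le _) (Finset.mem_univ i))] at this

include hd hf in
theorem IsSecRep.eq {n : ℤ} {s : Sec (𝒜 := 𝒜) (ℳ := ℳ) n ⊤} {i : Fin r} {k k' : ℕ} {m m' : M}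
    (h : IsSecRep 𝒜 ℳ f (d := d) s i k m) (h' : IsSecRep 𝒜 ℳ f (d := d) s i k' m') :
    ι f i (f i ^ k' • m) = ι f i (f i ^ k • m') := by
  have h1 := (h.raise hf k').1
  have h2 := (h'.raise hf k).1
  rw [add_comm k k'] at h2
  obtain ⟨hc, -⟩ := mem_gz ℳ (sub_mem h1 h2)
  obtain ⟨N, hN⟩ := exists_pow_smul_eq_zero_of_forall 𝒜 ℳ (hd i) (hf i) hc fun x hx => by
    obtain ⟨w, hw, he⟩ := (mkx_eq_iff 𝒜 _ _).1 ((h.2 x hx).symm.trans (h'.2 x hx))
    exact ⟨w, hw, by rw [smul_sub, he, sub_self]⟩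
  rw [← sub_eq_zero, ← map_sub]
  exact ι_eq_zero f hN

include hd hf in
theorem exists_theta {n : ℤ} (s : Sec (𝒜 := 𝒜) (ℳ := ℳ) n ⊤) :
    ∃ z : Z (M := M) f, ∀ i k m, IsSecRep 𝒜 ℳ f (d := d) s i k m →
      f i ^ k • (z : ∀ i, MF f M i) i = ι f i m := by
  obtain ⟨k, m, h⟩ := exists_secRep hd hf s
  choose z hz using fun i => (smul_bijective f i k).2 (ι f i (m i))
  refine ⟨⟨z, mem_Z_of_killed f k m hz fun i j => ?_⟩, fun i k' m' h' => (smul_bijective f i k).1 ?_⟩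
  · have h1 := smul_mem_gz 𝒜 ℳ (pow_mem_smul 𝒜 (hf j) k) (h i).1
    have h2 := smul_mem_gz 𝒜 ℳ (pow_mem_smul 𝒜 (hf i) k) (h j).1
    rw [show ((k * d i : ℕ) : ℤ) + (((k * d j : ℕ) : ℤ) + n) = ((k * d j : ℕ) : ℤ) + (((k * d i : ℕ) : ℤ) + n) by
      ring] at h2
    obtain ⟨hc, -⟩ := mem_gz ℳ (sub_mem h1 h2)
    refine exists_pow_smul_eq_zero_of_forall 𝒜 ℳ (Nat.add_pos_left (hd i) (d j))
      (SetLike.mul_mem_graded (hf i) (hf j)) hc fun x hx => ?_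
    have hxi : f i ∉ x.asHomogeneousIdeal := fun h' => hx (Ideal.mul_mem_right _ _ h')
    have hxj : f j ∉ x.asHomogeneousIdeal := fun h' => hx (Ideal.mul_mem_left _ _ h')
    obtain ⟨w, hw, he⟩ := (mkx_eq_iff 𝒜 _ _).1 (((h i).2 x hxi).symm.trans ((h j).2 x hxj))
    exact ⟨w, hw, by rw [smul_sub, he, sub_self]⟩
  · show f i ^ k • (f i ^ k' • z i) = f i ^ k • ι f i m'
    rw [smul_comm, show f i ^ k • z i = _ from hz i, ← map_smul, ← map_smul, IsSecRep.eq hd hf (h i) h']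

/-- The family of fractions of a section. -/
def theta {n : ℤ} (s : Sec (𝒜 := 𝒜) (ℳ := ℳ) n ⊤) : Z (M := M) f := (exists_theta hd hf s).choose

theorem theta_spec {n : ℤ} (s : Sec (𝒜 := 𝒜) (ℳ := ℳ) n ⊤) {i : Fin r} {k : ℕ} {m : M}
    (h : IsSecRep 𝒜 ℳ f (d := d) s i k m) : f i ^ k • (theta hd hf s : ∀ i, MF f M i) i = ι f i m :=
  (exists_theta hd hf s).choose_spec i k m h

theorem theta_add {n : ℤ} (s t : Sec (𝒜 := 𝒜) (ℳ := ℳ) n ⊤) :
    theta hd hf (s + t) = theta hd hf s + theta hd hf t := by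
  obtain ⟨k, m, hm⟩ := exists_secRep hd hf s
  obtain ⟨k', m', hm'⟩ := exists_secRep hd hf t
  refine Subtype.ext (funext fun i => (smul_bijective f i (k' + k)).1 ?_)
  have h1 := (hm i).raise hf k'
  have h2 := (hm' i).raise hf k
  rw [add_comm k k'] at h2
  have h3 : IsSecRep 𝒜 ℳ f (d := d) (s + t) i (k' + k) (f i ^ k' • m i + f i ^ k • m' i) :=
    ⟨add_mem h1.1 h2.1, fun x hx => by
      rw [show val (s + t) x trivial = val s x trivial + val t x trivial from rfl, h1.2 x hx, h2.2 x hx]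
      rw [mkx, mkx, mkx, LocalizedModule.mk_add_mk, LocalizedModule.mk_eq]
      refine ⟨1, ?_⟩
      simp only [one_smul, Submonoid.smul_def, Submonoid.coe_mul, smul_add, smul_smul, mul_assoc]⟩
  show f i ^ (k' + k) • _ = f i ^ (k' + k) • ((theta hd hf s : ∀ i, MF f M i) i + (theta hd hf t : ∀ i, MF f M i) i)
  rw [theta_spec hd hf _ h3, smul_add, theta_spec hd hf _ h1, theta_spec hd hf _ h2, map_add]

/-- All twists together. -/
def thetaAll : DirectSum ℤ (fun n : ℤ => ((tilde 𝒜 ℳ n).val.obj (op ⊤) : Type u)) →+ Z (M := M) f :=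
  DirectSum.toAddMonoid fun n => AddMonoidHom.mk' (fun s => theta hd hf (n := n) (ℳ := ℳ) (𝒜 := 𝒜) s) (theta_add hd hf)

theorem thetaAll_of (n : ℤ) (s : Sec (𝒜 := 𝒜) (ℳ := ℳ) n ⊤) :
    thetaAll hd hf (DirectSum.of (fun n : ℤ => ((tilde 𝒜 ℳ n).val.obj (op ⊤) : Type u)) n s) = theta hd hf s :=
  DirectSum.toAddMonoid_of _ _ _

theorem theta_alpha (e : ℕ) (m : ℳ e) : theta hd hf (GrMod.alpha 𝒜 ℳ e m) = toZ f (m : M) := by
  refine Subtype.ext (funext fun i => ?_)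
  have h : IsSecRep 𝒜 ℳ f (d := d) (GrMod.alpha 𝒜 ℳ e m) i 0 (m : M) :=
    ⟨by rw [zero_mul, Nat.cast_zero, zero_add, mem_gz_natCast]; exact m.2, fun x hx =>
      (mkx_eq_iff 𝒜 (one_nin x) _).2 ⟨1, one_nin x, by simp⟩⟩
  have := theta_spec hd hf _ h
  rwa [pow_zero, one_smul] at this

variable (hcov : ∀ x : ProjectiveSpectrum 𝒜, ∃ i, f i ∉ x.asHomogeneousIdeal)

include hcov in
theorem thetaAll_injective : Function.Injective (thetaAll (𝒜 := 𝒜) (ℳ := ℳ) hd hf) := by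
  classical
  rw [injective_iff_map_eq_zero]
  intro c hc
  let T : ℤ → Type u := fun n => ((tilde 𝒜 ℳ n).val.obj (op ⊤) : Type u)
  let S := DFinsupp.support (β := T) c
  choose k m hm using fun n : ℤ => exists_secRep hd hf (n := n) (c n : Sec (𝒜 := 𝒜) (ℳ := ℳ) n ⊤)
  let L := ∑ n ∈ S, k n
  let m' : ℤ → Fin r → M := fun n i => f i ^ (L - k n) • m n i
  have hm' : ∀ n ∈ S, ∀ i, IsSecRep 𝒜 ℳ f (d := d) (c n : Sec (𝒜 := 𝒜) (ℳ := ℳ) n ⊤) i L (m' n i) := fun n hn i => by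
    have := (hm n i).raise hf (L - k n)
    rwa [Nat.sub_add_cancel (Finset.single_le_sum (f := k) (fun _ _ => Nat.zero_le _) hn)] at this
  have hsum : ∀ i, ι f i (∑ n ∈ S, m' n i) = 0 := fun i => by
    have h1 : thetaAll hd hf c = ∑ n ∈ S, theta hd hf (c n : Sec (𝒜 := 𝒜) (ℳ := ℳ) n ⊤) := by
      conv_lhs => rw [← DirectSum.sum_support_of c]
      rw [map_sum]
      exact Finset.sum_congr rfl fun n _ => thetaAll_of hd hf n _
    rw [hc] at h1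
    rw [map_sum, show (0 : MF f M i) = f i ^ L • ((0 : Z (M := M) f) : ∀ i, MF f M i) i by simp, h1,
      Submodule.coe_sum, Finset.sum_apply, Finset.smul_sum]
    exact Finset.sum_congr rfl fun n hn => (theta_spec hd hf _ (hm' n hn i)).symm
  refine DFinsupp.ext fun n => ?_
  by_cases hn : n ∈ S
  swap
  · exact DFinsupp.notMem_support_iff.1 hn
  refine sec_ext fun x hx => ?_
  obtain ⟨i, hi⟩ := hcov x
  obtain ⟨N, hN⟩ := exists_pow_smul_of_eq_zero f (hsum i)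
  refine ((hm' n hn i).2 x hi).trans ((mkx_eq_zero_iff 𝒜 _).2 ⟨f i ^ N, pow_notMem 𝒜 hi N, ?_⟩)
  have h2 := congrArg (cz ℳ (((N * d i : ℕ) : ℤ) + (((L * d i : ℕ) : ℤ) + n))) hN
  rw [cz_smul 𝒜 ℳ (pow_mem_smul 𝒜 (hf i) N), cz_sum, Finset.sum_eq_single n (fun n' hn' hne => by
    rw [cz_of_mem ℳ (hm' n' hn' i).1, if_neg (fun e => hne (add_left_cancel e))]) (fun h => absurd hn h),
    cz_of_mem ℳ (hm' n hn i).1, if_pos rfl] at h2
  rw [h2]
  simp [cz]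

include hcov in
theorem thetaAll_surjective : Function.Surjective (thetaAll (𝒜 := 𝒜) (ℳ := ℳ) hd hf) := by
  classical
  intro z
  obtain ⟨a, m, hz, hm⟩ := z.2
  let S : Finset ℤ := Finset.univ.biUnion fun i : Fin r =>
    (DFinsupp.support (DirectSum.decompose ℳ (m i))).image fun e : ℕ => (e : ℤ) - ((a * d i : ℕ) : ℤ)
  let c : ℤ → Fin r → M := fun n i => cz ℳ (((a * d i : ℕ) : ℤ) + n) (m i)
  have hcomp : ∀ n i j, f j ^ a • c n i = f i ^ a • c n j := fun n i j => by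
    have h1 := congrArg (cz ℳ (((a * d j : ℕ) : ℤ) + (((a * d i : ℕ) : ℤ) + n))) (hm i j)
    rw [cz_smul 𝒜 ℳ (pow_mem_smul 𝒜 (hf j) a),
      show ((a * d j : ℕ) : ℤ) + (((a * d i : ℕ) : ℤ) + n) = ((a * d i : ℕ) : ℤ) + (((a * d j : ℕ) : ℤ) + n) by ring,
      cz_smul 𝒜 ℳ (pow_mem_smul 𝒜 (hf i) a)] at h1
    exact h1
  have hrep : ∀ n : ℤ, ∃ s : Sec (𝒜 := 𝒜) (ℳ := ℳ) n ⊤, ∀ i, IsSecRep 𝒜 ℳ f (d := d) s i a (c n i) := by
    intro n
    have hval : ∀ (x : ProjectiveSpectrum 𝒜) (i j : Fin r) (hi : f i ∉ x.asHomogeneousIdeal)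
        (hj : f j ∉ x.asHomogeneousIdeal),
        mkx 𝒜 x (c n i) (f i ^ a) (pow_notMem 𝒜 hi a) = mkx 𝒜 x (c n j) (f j ^ a) (pow_notMem 𝒜 hj a) :=
      fun x i j hi hj => (mkx_eq_iff 𝒜 _ _).2 ⟨1, one_nin x, by rw [one_smul, one_smul, hcomp n i j]⟩
    have hmem : ∀ (x : ProjectiveSpectrum 𝒜) (i : Fin r) (hi : f i ∉ x.asHomogeneousIdeal),
        mkx 𝒜 x (c n i) (f i ^ a) (pow_notMem 𝒜 hi a) ∈ tildeAt 𝒜 ℳ n x := fun x i hi =>
      mk_mem 𝒜 ℳ (mem_gz ℳ (cz_mem ℳ _ _)).1 (pow_mem_smul 𝒜 (hf i) a) _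
        ((mem_gz ℳ (cz_mem ℳ (((a * d i : ℕ) : ℤ) + n) (m i))).2.imp_left fun h => by
          rw [h, Nat.cast_mul])
    refine ⟨⟨fun x => ⟨_, hmem x.1 (hcov x.1).choose (hcov x.1).choose_spec⟩, fun x => ?_⟩,
      fun i => ⟨cz_mem ℳ _ _, fun x hx => hval x _ i (hcov x).choose_spec hx⟩⟩
    obtain ⟨i, hi⟩ := hcov x.1
    refine ⟨Proj.basicOpen 𝒜 (f i), hi, homOfLE le_top, (((a * d i : ℕ) : ℤ) + n).toNat, a * d i,
      ⟨c n i, (mem_gz ℳ (cz_mem ℳ _ _)).1⟩, ⟨f i ^ a, pow_mem_smul 𝒜 (hf i) a⟩,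
      fun y => pow_notMem 𝒜 y.2 a, (mem_gz ℳ (cz_mem ℳ (((a * d i : ℕ) : ℤ) + n) (m i))).2.imp_left fun h => by
        rw [h, Nat.cast_mul], fun y => hval y.1 _ i (hcov y.1).choose_spec y.2⟩
  choose s hs using hrep
  refine ⟨∑ n ∈ S, DirectSum.of (fun n : ℤ => ((tilde 𝒜 ℳ n).val.obj (op ⊤) : Type u)) n (s n), ?_⟩
  rw [map_sum]
  refine Subtype.ext (funext fun i => (smul_bijective f i a).1 ?_)
  show f i ^ a • ((∑ n ∈ S, thetaAll hd hf (DirectSum.of _ n (s n))) : Z (M := M) f).1 i = f i ^ a • z.1 i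
  simp only [thetaAll_of, Submodule.coe_sum, Finset.sum_apply, Finset.smul_sum]
  rw [hz i, Finset.sum_congr rfl fun n _ => theta_spec hd hf _ (hs n i), ← map_sum]
  congr 1
  have h0 : ∀ n : ℤ, c n i ≠ 0 → n ∈ (DFinsupp.support (DirectSum.decompose ℳ (m i))).image
      (fun e : ℕ => (e : ℤ) - ((a * d i : ℕ) : ℤ)) := fun n hn => by
    by_cases hz0 : 0 ≤ ((a * d i : ℕ) : ℤ) + n
    · refine Finset.mem_image.2 ⟨(((a * d i : ℕ) : ℤ) + n).toNat, DFinsupp.mem_support_iff.2 fun h => hn ?_, by omega⟩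
      simp only [c, cz, if_pos hz0, h, ZeroMemClass.coe_zero]
    · exact absurd (by simp only [c, cz, if_neg hz0]) hn
  rw [← Finset.sum_subset (Finset.subset_biUnion_of_mem (fun i : Fin r =>
      (DFinsupp.support (DirectSum.decompose ℳ (m i))).image fun e : ℕ => (e : ℤ) - ((a * d i : ℕ) : ℤ))
      (Finset.mem_univ i)) (fun n _ hn => by_contra fun h => hn (h0 n h)),
    Finset.sum_image (fun x _ y _ h => by simpa using h)]
  refine (Finset.sum_congr rfl fun e _ => ?_).trans (DirectSum.sum_support_decompose ℳ (m i))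
  simp only [c, cz]
  rw [add_sub_cancel, if_pos (Int.natCast_nonneg e), Int.toNat_natCast]

end Groth.Agent.GrAlpha27
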